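import Groth.Agent.EtPBCCdLib.Compactified

/-!
# The top compactified direct image
-/

set_option autoImplicit false
set_option linter.all false
set_option backward.isDefEq.respectTransparency false
set_option backward.isDefEq.respectTransparency.types false
set_option maxHeartbeats 1000000
set_option synthInstance.maxHeartbeats 400000

universe u

open CategoryTheory CategoryTheory.Limits CategoryTheory.Abelian AlgebraicGeometry Opposite TopologicalSpace
open Groth.Agent Groth.Agent.EtShLib EtPBCProperLib EtPBCCdLib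

attribute [local instance] EtSliceLib.pullExact

noncomputable section

namespace EtTopShriekLib

theorem le_pred {x : WithBot ℕ∞} {d : ℕ} (h : x < d) (hd : 0 < d) : x ≤ ((d - 1 : ℕ) : WithBot ℕ∞) := by
  obtain ⟨e, rfl⟩ : ∃ e, d = e + 1 := ⟨d - 1, by omega⟩
  cases x with
  | bot => exact bot_le
  | coe x =>
    cases x with
    | top =>
      exact absurd h (not_lt.2 (WithBot.coe_le_coe.2 le_top))
    | coe n =>
      have h' : n < e + 1 := by exact_mod_cast h
      exact_mod_cast Nat.lt_succ_iff.1 h'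

/-- Vanishing on a proper scheme over a separably closed field of a sheaf supported in a locally closed set of dimension `≤ d`. -/
theorem subsingleton_H_of_lc_support {d : ℕ} {k : Type u} [Field k] [IsSepClosed k] {P : Scheme.{u}}
    (b : P ⟶ Spec (CommRingCat.of k)) [IsProper b] (U : Set P) (hlc : IsLocallyClosed U) (hU : topologicalKrullDim U ≤ d)
    (G : EtCoh.Ab P) (hG : EtCoh.IsTorsion G)
    (hsupp : ∀ (Ω : Type u) [Field Ω] [IsSepClosed Ω] (ξ : Spec (CommRingCat.of Ω) ⟶ P),
      ξ.base default ∉ U → IsZero ((stk (A := AddCommGrpCat.{u + 1}) ξ).obj G))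
    (q : ℕ) (hq : 2 * d < q) : Subsingleton (EtCoh.H P G q) := by
  let T : Closeds P := ⟨closure U, isClosed_closure⟩
  let I := Scheme.IdealSheafData.vanishingIdeal T
  let i := I.subschemeι
  have hr : Set.range i.base = closure U :=
    I.range_subschemeι.trans (Scheme.IdealSheafData.coe_support_vanishingIdeal T)
  refine subsingleton_H_of_supported i G (fun Ω _ _ ξ h => hsupp Ω ξ fun h' => h (hr.ge (subset_closure h'))) q ?_
  haveI : IsProper (i ≫ b) := inferInstance
  haveI : IsLocallyNoetherian I.subscheme := LocallyOfFiniteType.isLocallyNoetherian (i ≫ b)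
  haveI : CompactSpace I.subscheme := QuasiCompact.compactSpace_of_compactSpace (i ≫ b)
  haveI : AlgebraicGeometry.IsNoetherian I.subscheme := { }
  refine cdBound d k I.subscheme (i ≫ b) ?_ _ (CdCurveLib.isTorsion_pull_map i hG) q hq
  let O : P.Opens := ⟨coborder U, hlc.isOpen_coborder⟩
  let V : I.subscheme.Opens := i ⁻¹ᵁ O
  have hVU : ∀ w : I.subscheme, w ∈ V → i.base w ∈ U := fun w hw =>
    (coborder_inter_closure (s := U)).le ⟨hw, hr.le ⟨w, rfl⟩⟩
  refine FibDimLib.topologicalKrullDim_le_of_generic fun z hz => ?_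
  have hzV : z ∈ V := by
    obtain ⟨o, ho, ⟨w, hw⟩, hoz⟩ := NoetherianSpace.exists_isOpen_nonempty_subset_irreducibleComponent _ hz
    obtain ⟨o', ho', rfl⟩ := i.isEmbedding.isInducing.isOpen_iff.1 ho
    obtain ⟨_, hxo, hxU⟩ := mem_closure_iff.1 (hr.le ⟨w, rfl⟩) o' ho' hw
    obtain ⟨v, rfl⟩ := hr.ge (subset_closure hxU)
    exact (specializes_iff_mem_closure.2 (hoz hxo)).mem_open V.2 (subset_coborder hxU : i.base v ∈ coborder U)
  haveI : LocallyOfFiniteType (Over.mk (i ≫ b)).hom := inferInstanceAs (LocallyOfFiniteType (i ≫ b))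
  rw [← FibDimLib.topologicalKrullDim_closure_open (Over.mk (i ≫ b)) V ⟨z, hzV⟩]
  refine ((topologicalKrullDim_subspace_le _ _).trans ?_).trans hU
  exact (((i.isEmbedding.isInducing.comp Topology.IsInducing.subtypeVal).codRestrict (fun w => hVU w.1 w.2)) :
    Topology.IsInducing (Set.codRestrict (fun w : (V : Set I.subscheme) => i.base w.1) U fun w => hVU w.1 w.2)).topologicalKrullDim_le

/-- Direct images of torsion sheaves supported on an immersed scheme vanish above twice its fibre dimension. -/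
theorem isZero_Rpush_of_support {Z P S : Scheme.{u}} (i : Z ⟶ P) [IsImmersion i] (p : P ⟶ S) [IsProper p] (d : ℕ)
    (hdim : ∀ s : S, topologicalKrullDim ((i ≫ p).fiber s) ≤ d) (G : EtCoh.Ab P) (hG : EtCoh.IsTorsion G)
    (hsupp : ∀ (Ω : Type u) [Field Ω] [IsSepClosed Ω] (ξ : Spec (CommRingCat.of Ω) ⟶ P),
      ξ.base default ∉ Set.range i.base → IsZero ((stk (A := AddCommGrpCat.{u + 1}) ξ).obj G))
    (q : ℕ) (hq : 2 * d < q) : IsZero ((EtCoh.Rpush p q).obj G) := by
  refine isZero_of_geomPt_stalks _ fun y => ?_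
  let R := HenselLib.SH (S.presheaf.stalk y)
  have hS : Hensel.IsStrictHenselization (S.presheaf.stalk y) R := inferInstance
  haveI : IsSepClosed (IsLocalRing.ResidueField R) := hS.isSepClosure.sep_closed
  refine ⟨R, inferInstance, inferInstance, inferInstance, inferInstance, inferInstance, ?_⟩
  let ξ := Hens2.geomPt S y R
  obtain ⟨es⟩ := nonempty_stalk_iso p ξ _ hG q
  refine es.addCommGroupIsoToAddEquiv.toEquiv.subsingleton_congr.2 ?_
  let a := pullback.fst p ξ
  let b := pullback.snd p ξ
  have hlc : IsLocallyClosed (a.base ⁻¹' Set.range i.base) := i.isLocallyClosed_range.preimage a.continuous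
  refine subsingleton_H_of_lc_support b (a.base ⁻¹' Set.range i.base) hlc ?_ _ (CdCurveLib.isTorsion_pull_map a hG)
    (fun Ω _ _ η hη => IsZero.of_iso (hsupp Ω (η ≫ a) hη)
      ((stalkPull a η AddCommGrpCat.{u + 1}).app _).symm) q hq
  have hpb : IsPullback (pullback.snd a i) (pullback.fst a i ≫ b) (i ≫ p) ξ :=
    (IsPullback.of_hasPullback a i).flip.paste_vert (IsPullback.of_hasPullback p ξ)
  have hh : topologicalKrullDim ↥(pullback a i) ≤ d := by
    rw [IsHomeomorph.topologicalKrullDim_eq _ hpb.isoPullback.hom.homeomorph.isHomeomorph]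
    exact (dim_pullback_point (i ≫ p) ξ).trans_le (hdim _)
  refine le_trans ?_ hh
  haveI : IsImmersion (pullback.fst a i) := inferInstance
  refine ((Homeomorph.setCongr ?_).trans (pullback.fst a i).isEmbedding.toHomeomorph.symm).isInducing.topologicalKrullDim_le
  exact (Scheme.Pullback.range_fst a i).symm

section Shriek

variable {X P : Scheme.{u}} (j : X ⟶ P) [IsOpenImmersion j]

theorem pfl_extZero : PreservesFiniteLimits (EtShriek.extZero j) := preservesFiniteLimits_extZero j

theorem pfc_extZero : PreservesFiniteColimits (EtShriek.extZero j) := by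
  haveI : (EtShriek.extZero j).IsLeftAdjoint := (EtShriek.extZeroAdj j).isLeftAdjoint
  infer_instance

theorem isTorsion_extZero {F : EtCoh.Ab X} (hF : EtCoh.IsTorsion F) : EtCoh.IsTorsion ((EtShriek.extZero j).obj F) :=
  Groth.Agent.EtShLib.isTorsion_of_iso ((extZeroPreIso j ≪≫ (lowerShriekIso j).symm).app F).symm
      (isTorsion_lowerShriek j F hF)

theorem mono_counit (F : EtCoh.Ab P) : Mono ((EtShriek.extZeroAdj j).counit.app F) :=
  (mono_iff_stalks (A := AddCommGrpCat.{u + 1}) _).2 fun Ω _ _ ξ => by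
    by_cases h : ξ.base default ∈ Set.range j.base
    · haveI := isIso_counit_stalk j F ξ h
      exact inferInstanceAs (Mono ((stk (A := AddCommGrpCat.{u + 1}) ξ).map ((EtShriek.extZeroAdj j).counit.app F)))
    · exact ⟨fun a b _ => (isZero_stalk_extZero j _ ξ h).eq_of_tgt a b⟩

theorem isZero_stalk_coker (F : EtCoh.Ab P) {Ω : Type u} [Field Ω] [IsSepClosed Ω]
    (ξ : Spec (CommRingCat.of Ω) ⟶ P) (h : ξ.base default ∈ Set.range j.base) :
    IsZero ((stk (A := AddCommGrpCat.{u + 1}) ξ).obj (cokernel ((EtShriek.extZeroAdj j).counit.app F))) := by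
  haveI := isIso_counit_stalk j F ξ h
  let S := stk (A := AddCommGrpCat.{u + 1}) ξ
  rw [IsZero.iff_id_eq_zero]
  haveI : Epi (S.map (cokernel.π ((EtShriek.extZeroAdj j).counit.app F))) := inferInstance
  rw [← cancel_epi (S.map (cokernel.π ((EtShriek.extZeroAdj j).counit.app F))), comp_zero, Category.comp_id,
    ← cancel_epi (S.map ((EtShriek.extZeroAdj j).counit.app F)), comp_zero, ← S.map_comp, cokernel.condition, S.map_zero]

theorem isTorsion_coker (F : EtCoh.Ab P) (hF : EtCoh.IsTorsion F) :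
    EtCoh.IsTorsion (cokernel ((EtShriek.extZeroAdj j).counit.app F)) :=
  isTorsion_cokernel _ hF

end Shriek

attribute [local instance] pfl_extZero pfc_extZero

variable {X P S : Scheme.{u}} (j : X ⟶ P) [IsOpenImmersion j] (p : P ⟶ S) [IsProper p]

theorem additive_extZero : (EtShriek.extZero j).Additive := (EtShriek.extZeroAdj j).left_adjoint_additive

attribute [local instance] additive_extZero

/-- Right exactness of the top compactified direct image. -/
theorem epi_Rpush_extZero_map (d : ℕ) (hdim : ∀ s : S, topologicalKrullDim ((j ≫ p).fiber s) ≤ d)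
    {F G : EtCoh.Ab X} (hF : EtCoh.IsTorsion F) (φ : F ⟶ G) [Epi φ] :
    Epi ((EtCoh.Rpush p (2 * d)).map ((EtShriek.extZero j).map φ)) := by
  let T : ShortComplex (EtCoh.Ab X) := ShortComplex.mk (kernel.ι φ) φ (kernel.condition φ)
  have hT : T.ShortExact :=
    { exact := ShortComplex.exact_of_f_is_kernel _ (kernelIsKernel φ)
      mono_f := inferInstanceAs (Mono (kernel.ι φ))
      epi_g := inferInstanceAs (Epi φ) }
  have hK : EtCoh.IsTorsion (kernel φ) := by
    refine isTorsion_of_torsionBy fun Ω _ _ ξ x => ?_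
    obtain ⟨m, hm, hp⟩ := torsionBy_of_isTorsion hF Ω ξ ((stk (A := AddCommGrpCat.{u + 1}) ξ).map (kernel.ι φ) x)
    refine ⟨m, hm, (AddCommGrpCat.mono_iff_injective ((stk (A := AddCommGrpCat.{u + 1}) ξ).map (kernel.ι φ))).1
      ((mono_iff_stalks (A := AddCommGrpCat.{u + 1}) (kernel.ι φ)).1 inferInstance Ω ξ) ?_⟩
    rw [map_nsmul, hp, map_zero]
  exact ((RDerLib.derivedLES (EtCoh.push p)).exact₃ _ (hT.map_of_exact (EtShriek.extZero j)) (2 * d) (2 * d + 1) rfl).epi_f
    ((isZero_Rpush_extZero j p d hdim _ hK (2 * d + 1) (by omega)).eq_of_tgt _ _)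

/-- The top compactified direct image only depends on an open with small complement. -/
theorem isIso_Rpush_extZero_counit (d : ℕ) {U Z : Scheme.{u}}
    (k : U ⟶ X) [IsOpenImmersion k] (i : Z ⟶ X) [IsClosedImmersion i]
    (hki : Set.range k.base = (Set.range i.base)ᶜ)
    (hZ : ∀ s : S, topologicalKrullDim ((i ≫ j ≫ p).fiber s) < d)
    (F : EtCoh.Ab X) (hF : EtCoh.IsTorsion F) :
    IsIso ((EtCoh.Rpush p (2 * d)).map ((EtShriek.extZero j).map ((EtShriek.extZeroAdj k).counit.app F))) := by
  let c := (EtShriek.extZeroAdj k).counit.app F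
  haveI : Mono c := mono_counit k F
  let T : ShortComplex (EtCoh.Ab X) := ShortComplex.mk c (cokernel.π c) (cokernel.condition c)
  have hT : T.ShortExact :=
    { exact := ShortComplex.exact_of_g_is_cokernel _ (cokernelIsCokernel c)
      mono_f := inferInstanceAs (Mono c)
      epi_g := inferInstanceAs (Epi (cokernel.π c)) }
  let Q := (EtShriek.extZero j).obj (cokernel c)
  have hsQ : ∀ (Ω : Type u) [Field Ω] [IsSepClosed Ω] (ξ : Spec (CommRingCat.of Ω) ⟶ P),
      ξ.base default ∉ Set.range (i ≫ j).base → IsZero ((stk (A := AddCommGrpCat.{u + 1}) ξ).obj Q) := by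
    intro Ω _ _ ξ hξ
    by_cases h : ξ.base default ∈ Set.range j.base
    · obtain ⟨x, hx⟩ := h
      obtain ⟨l, hl, -⟩ := Scheme.exists_fac_of_etale_of_isSepClosed j ξ x hx
      haveI := isIso_inclStalk j (cokernel c) ξ ⟨l, hl⟩
      refine IsZero.of_iso (isZero_stalk_coker k F l ?_) (asIso (inclStalk j (cokernel c) ξ ⟨l, hl⟩)).symm
      rw [hki]
      rintro ⟨z, hz⟩
      exact hξ ⟨z, by rw [← hl, Scheme.Hom.comp_apply, hz, Scheme.Hom.comp_apply]⟩
    · exact isZero_stalk_extZero j _ ξ h
  have hQT : EtCoh.IsTorsion Q := isTorsion_extZero j (isTorsion_coker k F hF)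
  rcases Nat.eq_zero_or_pos d with rfl | hd
  · haveI : IsEmpty Z := ⟨fun z => by
      have h := hZ ((i ≫ j ≫ p).base z)
      haveI : Nonempty ((i ≫ j ≫ p).fiber ((i ≫ j ≫ p).base z)) := ⟨(i ≫ j ≫ p).asFiber z⟩
      haveI : Nonempty (IrreducibleCloseds ((i ≫ j ≫ p).fiber ((i ≫ j ≫ p).base z))) :=
        ⟨⟨closure {((i ≫ j ≫ p).asFiber z)}, isIrreducible_singleton.closure, isClosed_closure⟩⟩
      exact absurd h (not_lt.2 (by exact_mod_cast Order.krullDim_nonneg))⟩
    haveI : IsIso c := by
      refine isIso_of_stalks (A := AddCommGrpCat.{u + 1}) c fun Ω _ _ ξ => isIso_counit_stalk k F ξ ?_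
      rw [hki]
      rintro ⟨z, -⟩
      exact isEmptyElim z
    infer_instance
  · have hz : ∀ q, 2 * d - 1 ≤ q → IsZero ((EtCoh.Rpush p q).obj Q) := fun q hq =>
      isZero_Rpush_of_support (i ≫ j) p (d - 1) (fun s => by
        rw [Category.assoc]
        exact le_pred (hZ s) hd) Q hQT hsQ q (by omega)
    have hTS := hT.map_of_exact (EtShriek.extZero j)
    haveI : Mono ((EtCoh.Rpush p (2 * d)).map ((EtShriek.extZero j).map c)) := by
      obtain ⟨e, he⟩ : ∃ e, 2 * d = e + 1 := ⟨2 * d - 1, by omega⟩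
      exact ((RDerLib.derivedLES (EtCoh.push p)).exact₁ _ hTS e (2 * d) (by omega)).mono_g
        ((hz e (by omega)).eq_of_src _ _)
    haveI : Epi ((EtCoh.Rpush p (2 * d)).map ((EtShriek.extZero j).map c)) :=
      ((RDerLib.derivedLES (EtCoh.push p)).exact₂ _ hTS (2 * d)).epi_f ((hz (2 * d) (by omega)).eq_of_tgt _ _)
    exact isIso_of_mono_of_epi _

end EtTopShriekLib

end
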